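import Mathlib
import Cfsg.Prelude.Def_Classical
import Cfsg.Agent.KFacts.SuzFix
import Cfsg.Agent.OddHalf.MM.Main_m3
import Cfsg.Agent.FastGrp
import Cfsg.Agent.Prune
set_option linter.all false

section
prune_inst 0x7f00000000000000000000000000000000000000000000000000000000000000000000000000000000000000000000000000000000000000000000000000000000000000000000000000000000000000003fffffffffffffffffffffffffffbeffbdffffffff

-- part: H33/RCSuz/Simple
section
set_option linter.all false
open scoped Cfsg.Agent.FastGrp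

/-!
# Simplicity from a self-centralizing element of prime order (helper33)

`M` perfect, `u` of prime order `p` with `C(u) = ⟨u⟩`, `p² ∤ |M|`: a normal subgroup `K ≠ M` has order prime to `p`
and all its Sylow subgroups have orders `≡ 1` modulo `p`.
-/

set_option autoImplicit false

namespace Cfsg.Agent.H33.RCSuz

open Subgroup
open scoped commutatorElement

/-- self-centralizing elements of order `p` are conjugate up to powers -/
theorem cent_conj {G : Type*} [Group G] [Finite G] {p : ℕ} (hp : p.Prime) (hp2 : ¬ p ^ 2 ∣ Nat.card G) {x u : G}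
    (hx : orderOf x = p) (hu : orderOf u = p) (hc : ∀ c, c * x = x * c → c ∈ zpowers x) :
    ∀ c, c * u = u * c → c ∈ zpowers u := by
  have := Fact.mk hp
  have hsyl : ∀ v : G, orderOf v = p → ∃ S : Sylow p G, (S : Subgroup G) = zpowers v := by
    intro v hv
    have h1 : IsPGroup p (zpowers v) := IsPGroup.of_card (n := 1) (by rw [Nat.card_zpowers, hv, pow_one])
    obtain ⟨S, hS⟩ := h1.exists_le_sylow
    refine ⟨S, (eq_of_le_of_card_ge hS ?_).symm⟩
    obtain ⟨n, hn⟩ := (IsPGroup.iff_card).1 S.2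
    rw [Nat.card_zpowers, hv, hn]
    have h2 : n ≤ 1 := by
      by_contra h
      push Not at h
      exact hp2 ((pow_dvd_pow p h).trans (hn ▸ card_subgroup_dvd_card (S : Subgroup G)))
    calc p ^ n ≤ p ^ 1 := Nat.pow_le_pow_right hp.one_lt.le h2
      _ = p := pow_one p
  obtain ⟨S, hS⟩ := hsyl x hx
  obtain ⟨T, hT⟩ := hsyl u hu
  obtain ⟨g, hg⟩ := MulAction.exists_smul_eq G S T
  have h1 : ∀ y, y ∈ zpowers u ↔ g⁻¹ * y * g ∈ zpowers x := by
    intro y
    rw [← hT, ← hg, ← hS, Sylow.coe_subgroup_smul, mem_smul_pointwise_iff_exists]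
    constructor
    · rintro ⟨s, hs, rfl⟩
      have : g⁻¹ * (MulAut.conj g • s) * g = s := by
        show g⁻¹ * (g * s * g⁻¹) * g = s
        group
      rw [this]; exact hs
    · intro h
      refine ⟨_, h, ?_⟩
      show g * (g⁻¹ * y * g) * g⁻¹ = y
      group
  intro c hcc
  rw [h1]
  apply hc
  have h2 : g⁻¹ * u * g ∈ zpowers x := (h1 _).1 (mem_zpowers _)
  have h3 : zpowers (g⁻¹ * u * g) = zpowers x := by
    apply eq_of_le_of_card_ge (zpowers_le.2 h2)
    rw [Nat.card_zpowers, Nat.card_zpowers, hx]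
    have h4 : orderOf (g⁻¹ * u * g) = p := by
      have : g⁻¹ * u * g = MulAut.conj g⁻¹ u := by simp
      rw [this, MulEquiv.orderOf_eq, hu]
    exact h4.ge
  have h5 : x ∈ zpowers (g⁻¹ * u * g) := by rw [h3]; exact mem_zpowers x
  obtain ⟨k, hk⟩ := mem_zpowers_iff.1 h5
  have h6 : Commute (g⁻¹ * c * g) (g⁻¹ * u * g) := by
    show g⁻¹ * c * g * (g⁻¹ * u * g) = g⁻¹ * u * g * (g⁻¹ * c * g)
    calc g⁻¹ * c * g * (g⁻¹ * u * g) = g⁻¹ * (c * u) * g := by group
      _ = g⁻¹ * (u * c) * g := by rw [hcc]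
      _ = g⁻¹ * u * g * (g⁻¹ * c * g) := by group
  have h7 := h6.zpow_right k
  rw [hk] at h7
  exact h7.eq

section

variable {M : Type*} [Group M] [Finite M] {p : ℕ} {u : M}

end

end Cfsg.Agent.H33.RCSuz
end

-- part: H33/RCSuz/MTw
section
set_option linter.all false
open scoped Cfsg.Agent.FastGrp

/-!
# `C(σ)` in the Suzuki group: `Y = ⟨a, b, edcde, d, cdcdfg⟩` is simple of order at least 95040 (helper33)

* `simpleY`, `perfY`, `cardY`, `fixY`, `oddY` (the elements of odd prime order fixed by `σ` lie in `Y`).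
-/

set_option autoImplicit false
set_option maxRecDepth 100000
set_option exponentiation.threshold 4000

namespace Cfsg.Agent.H33.RCSuz

open Subgroup Cfsg
open Cfsg.Spor (Suz)
open Cfsg.Agent.Lib.PermNet Cfsg.Agent.Lib.PermNetOrbit Cfsg.Agent.SporadicRecognition.SuzPhi
  Cfsg.Agent.SporadicRecognition.SuzBound Cfsg.Agent.SporadicRecognition.SuzOrder
  Cfsg.Agent.SuzThree.Nets Cfsg.Agent.SuzThree.Basic Cfsg.Agent.SuzThree.Elts
  Cfsg.Agent.SuzThree.CentA Cfsg.Agent.SuzThree.CentB Cfsg.Agent.SuzThree.CentCard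
  Cfsg.Agent.SuzThree.QZero Cfsg.Agent.KFacts.SuzRho Cfsg.Agent.KFacts.SuzFix

/-! ### The group fixed by `σ` -/

theorem cent11 {u : Suz} (hu : orderOf u = 11) : ∀ c, c * u = u * c → c ∈ zpowers u := by
  have hfin : Finite Suz := inferInstance
  refine cent_conj (x := OddHalf.Table.SuzRep.x) (by norm_num) (by rw [card_Suz]; norm_num) OddHalf.Table.OutSuz.order_x hu
    fun c hc => ?_
  obtain ⟨i, hi⟩ := OddHalf.Table.OutSuz.cent_x c hc
  rw [hi]
  exact pow_mem (mem_zpowers _) i

end Cfsg.Agent.H33.RCSuz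
end
end
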